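import Groth.Agent.NIsog.Factor
import Groth.Agent.NTors.EtalePow
import Groth.Agent.NeronBasic.Basic
import Groth.Agent.S7785
import Groth.Prelude.Def_Neron
import Mathlib.AlgebraicGeometry.Geometrically.Integral

/-!
# Kernels of isogenies of Néron models of invertible degree
-/

set_option autoImplicit false

universe u

open CategoryTheory Limits AlgebraicGeometry MonoidalCategory CartesianMonoidalCategory MonObj

open scoped CategoryTheory.Obj

namespace Groth.Agent.NIsog

variable {R : Type u} [CommRing R] [IsDomain R]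

theorem isCommMonObj_of_genericFibre (A : Over (Spec (CommRingCat.of R))) [GrpObj A] [Flat A.hom]
    [IsSeparated A.hom] [IsCommMonObj (Red.bc (Neron.genPt R) A)] : IsCommMonObj A := by
  haveI : Flat (A ⊗ A).hom := inferInstanceAs (Flat (pullback.fst A.hom A.hom ≫ A.hom))
  have h : snd A A * fst A A = fst A A * snd A A := by
    apply NeronBasic.eq_of_map_genericFibre R
    let r := Neron.genPt R
    let a : Red.bc r (A ⊗ A) ⟶ Red.bc r A := (Over.pullback r).map (snd A A)
    let b : Red.bc r (A ⊗ A) ⟶ Red.bc r A := (Over.pullback r).map (fst A A)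
    have e1 : (Over.pullback r).map (snd A A * fst A A) = a * b := Functor.map_mul (F := Over.pullback r) _ _
    have e2 : (Over.pullback r).map (fst A A * snd A A) = b * a := Functor.map_mul (F := Over.pullback r) _ _
    exact e1.trans ((mul_comm a b).trans e2.symm)
  refine ⟨?_⟩
  rw [← lift_snd_fst, ← Hom.mul_def, h, Hom.mul_def, lift_fst_snd, Category.id_comp]

theorem isKernel_bc {S S' : Scheme.{u}} (r : S' ⟶ S) {A B N : Over S} [GrpObj B] {i : N ⟶ A} {φ : A ⟶ B}
    (hN : AlgGrp.IsKernel i φ) :
    AlgGrp.IsKernel ((Over.pullback r).map i : Red.bc r N ⟶ Red.bc r A)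
      ((Over.pullback r).map φ : Red.bc r A ⟶ Red.bc r B) := by
  haveI : PreservesLimitsOfSize.{0, 0} (Over.pullback r) := (Over.mapPullbackAdj r).rightAdjoint_preservesLimits
  have h := hN.map (Over.pullback r)
  refine h.of_iso (Iso.refl _) (Iso.refl _) (Functor.Monoidal.εIso (Over.pullback r)).symm (Iso.refl _) ?_ ?_ ?_ ?_
  · simp
  · exact toUnit_unique _ _
  · simp
  · show (Over.pullback r).map η[B] ≫ 𝟙 _ = _ ≫ η[Red.bc r B]
    rw [Category.comp_id, Functor.obj.η_def]
    simp

theorem etale_kernel {S : Scheme.{u}} {A B N : Over S} [GrpObj A] [GrpObj B] [IsCommMonObj A] [IsCommMonObj B]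
    [Smooth A.hom] [QuasiCompact A.hom] [Smooth B.hom] [QuasiCompact B.hom] [IsSeparated B.hom]
    (φ : A ⟶ B) [IsMonHom φ] (ψ : B ⟶ A) (n : ℕ) (hψ : φ ≫ ψ = 𝟙 A ^ n)
    (hn : ∀ s : S, (n : S.residueField s) ≠ 0) (i : N ⟶ A) (hN : AlgGrp.IsKernel i φ) :
    Etale N.hom ∧ IsClosedImmersion i.left := by
  have h' : IsPullback i.left (toUnit N).left φ.left (η[B]).left := hN.map (Over.forget S)
  have hN' : (toUnit N).left = N.hom := rfl
  haveI : IsClosedImmersion η[B].left := by
    haveI : IsClosedImmersion (η[B].left ≫ B.hom) := by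
      rw [Over.w η[B]]
      exact inferInstanceAs (IsClosedImmersion (𝟙 S))
    exact IsClosedImmersion.of_comp η[B].left B.hom
  refine ⟨?_, MorphismProperty.of_isPullback h'.flip inferInstance⟩
  let pA := ((𝟙 A : A ⟶ A) ^ n).left
  let pB := ((𝟙 B : B ⟶ B) ^ n).left
  haveI : Etale pA := NTors.etale_powMap n hn
  haveI : Etale pB := NTors.etale_powMap n hn
  let e : 𝟙_ (Over S) ⟶ A := η
  let e' : 𝟙_ (Over S) ⟶ B := η
  have heB : e.left ≫ φ.left = e'.left := congrArg CommaMorphism.left (IsMonHom.one_hom φ)
  have hcomm : φ.left ≫ pB = pA ≫ φ.left := by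
    have : φ ≫ (𝟙 B : B ⟶ B) ^ n = ((𝟙 A : A ⟶ A) ^ n) ≫ φ := by
      rw [MonObj.comp_pow, Category.comp_id, MonObj.pow_comp, Category.id_comp]
    exact congrArg CommaMorphism.left this
  let q : pullback pA e.left ⟶ pullback pB e'.left :=
    pullback.lift (pullback.fst _ _ ≫ φ.left) (pullback.snd _ _) (by
      rw [Category.assoc, hcomm, ← Category.assoc, pullback.condition, Category.assoc, heB])
  let eB : S ⟶ pullback pB e'.left := pullback.lift e'.left (𝟙 S) (by
    have h1 : η[B] ≫ (𝟙 B : B ⟶ B) ^ n = η[B] := by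
      rw [MonObj.comp_pow, Category.comp_id, MonObj.one_eq_one, one_pow]
    exact (congrArg CommaMorphism.left h1).trans (Category.id_comp _).symm)
  have hkill : i ≫ (𝟙 A : A ⟶ A) ^ n = toUnit N ≫ η[A] := by
    rw [← hψ, ← Category.assoc, hN.w, Category.assoc, ← IsMonHom.one_hom φ, Category.assoc, hψ,
      MonObj.comp_pow, MonObj.comp_pow, Category.comp_id, MonObj.one_eq_one, MonObj.comp_one, one_pow]
  let l : N.left ⟶ pullback pA e.left := pullback.lift i.left N.hom (congrArg CommaMorphism.left hkill)
  haveI : Etale (eB ≫ pullback.snd pB e'.left) := by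
    rw [pullback.lift_snd]; infer_instance
  haveI : Etale eB := Etale.of_comp eB (pullback.snd pB e'.left)
  haveI : Mono eB := by
    haveI : Mono (eB ≫ pullback.snd pB e'.left) := by rw [pullback.lift_snd]; infer_instance
    exact mono_of_mono eB (pullback.snd pB e'.left)
  haveI : IsOpenImmersion eB := IsOpenImmersion.of_flat_of_mono eB
  have hwi : i.left ≫ φ.left = N.hom ≫ e'.left := h'.w
  have l1 : l ≫ pullback.fst pA e.left = i.left := pullback.lift_fst _ _ _
  have l2 : l ≫ pullback.snd pA e.left = N.hom := pullback.lift_snd _ _ _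
  have q1 : q ≫ pullback.fst pB e'.left = pullback.fst pA e.left ≫ φ.left := pullback.lift_fst _ _ _
  have q2 : q ≫ pullback.snd pB e'.left = pullback.snd pA e.left := pullback.lift_snd _ _ _
  have b1 : eB ≫ pullback.fst pB e'.left = e'.left := pullback.lift_fst _ _ _
  have b2 : eB ≫ pullback.snd pB e'.left = 𝟙 S := pullback.lift_snd _ _ _
  have hw : l ≫ q = N.hom ≫ eB := by
    apply pullback.hom_ext
    · rw [Category.assoc, q1, ← Category.assoc, l1, Category.assoc, b1]
      exact hwi
    · rw [Category.assoc, q2, l2, Category.assoc, b2]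
      exact (Category.comp_id _).symm
  have hpb : IsPullback l N.hom q eB := by
    refine IsPullback.mk' hw ?_ ?_
    · intro T a b h1 h2
      refine h'.hom_ext ?_ h2
      have h3 := congrArg (· ≫ pullback.fst pA e.left) h1
      rw [Category.assoc, Category.assoc, l1] at h3
      exact h3
    · intro T a b hab
      have h1 : (a ≫ pullback.fst pA e.left) ≫ φ.left = b ≫ e'.left := by
        have h3 := congrArg (· ≫ pullback.fst pB e'.left) hab
        rw [Category.assoc, Category.assoc, q1, b1, ← Category.assoc] at h3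
        exact h3
      have h2 : a ≫ pullback.snd pA e.left = b := by
        have h3 := congrArg (· ≫ pullback.snd pB e'.left) hab
        rw [Category.assoc, Category.assoc, q2, b2] at h3
        exact h3.trans (Category.comp_id _)
      refine ⟨h'.lift _ b h1, ?_, h'.lift_snd _ b h1⟩
      apply pullback.hom_ext
      · rw [Category.assoc, l1]
        exact h'.lift_fst _ b h1
      · rw [Category.assoc, l2]
        exact (h'.lift_snd _ b h1).trans h2.symm
  haveI : IsOpenImmersion l := MorphismProperty.of_isPullback hpb.flip inferInstance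
  haveI : Etale (pullback.snd pA e.left) := inferInstance
  rw [show N.hom = l ≫ pullback.snd pA e.left from (pullback.lift_snd _ _ _).symm]
  infer_instance

end Groth.Agent.NIsog
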