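import Groth.Agent.GrpSchLib.HomFlat
import Groth.Agent.GrpSchLib.KernelGrp
import Groth.Agent.GrpSchLib.RankOneBase
import Groth.Agent.GrpSchLib.SmoothReduced
import Groth.Agent.S7782
import Mathlib.AlgebraicGeometry.Sites.Fpqc

/-!
# An isogeny over a field divides multiplication by its degree
-/

set_option autoImplicit false

universe u

open CategoryTheory Limits AlgebraicGeometry MonoidalCategory CartesianMonoidalCategory MonObj

namespace Groth.Agent.NIsog

theorem exists_factor_pow {k : Type u} [Field k] {G H M : Over (Spec (CommRingCat.of k))} [GrpObj G] [GrpObj H]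
    [IsCommMonObj G] [Smooth G.hom] [QuasiCompact G.hom] [Smooth H.hom] [IsSeparated H.hom] [QuasiCompact H.hom]
    (f : G ⟶ H) [IsMonHom f] [Surjective f.left] (i : M ⟶ G) (hi : AlgGrp.IsKernel i f) [IsFinite M.hom]
    (n : ℕ) (hn : ∀ s, M.hom.finrank s = n) : ∃ g : H ⟶ G, f ≫ g = 𝟙 G ^ n := by
  obtain ⟨N, _, j, _, _, -, hj⟩ := GrpSchLib.exists_kernel f
  let e : N ≅ M := IsPullback.isoIsPullback _ _ hj hi
  let eL : N.left ≅ M.left := (Over.forget _).mapIso e
  haveI : IsFinite N.hom := by
    rw [← Over.w e.hom]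
    exact inferInstanceAs (IsFinite (eL.hom ≫ M.hom))
  haveI : Flat N.hom := inferInstance
  haveI : LocallyOfFinitePresentation N.hom := inferInstance
  have hN : ∀ s, N.hom.finrank s = n := fun s => by
    rw [← Over.w e.hom]
    exact (congrFun (Scheme.Hom.finrank_comp_left_of_isIso eL.hom M.hom) s).trans (hn s)
  haveI : Mono j := ⟨fun a b hab => hj.hom_ext hab (toUnit_unique _ _)⟩
  haveI : IsCommMonObj N := ⟨by
    rw [← lift_snd_fst]
    have h := GrpSchLib.RankOne.isCommMonObj_of_iso j (N ⊗ N) (snd N N) (fst N N)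
    rw [Hom.mul_def] at h
    rw [h, Hom.mul_def, lift_fst_snd, Category.id_comp]⟩
  have hkill : ∀ {T : Over (Spec (CommRingCat.of k))} (x : T ⟶ G), x ≫ f = 1 → x ^ n = 1 := by
    intro T x hx
    have := Groth.Agent.S7782.result N n hN T (hj.lift x (toUnit T) hx)
    rw [← hj.lift_fst x (toUnit T) hx, ← MonObj.pow_comp, this, MonObj.one_comp]
  haveI : IsReduced H.left := GrpSchLib.isReduced_of_smooth_field H.hom
  haveI : IsLocallyNoetherian H.left := LocallyOfFiniteType.isLocallyNoetherian H.hom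
  haveI : QuasiCompact f.left := by
    haveI : QuasiCompact (f.left ≫ H.hom) := by rw [Over.w f]; infer_instance
    exact QuasiCompact.of_comp f.left H.hom
  haveI := GrpSchLib.flat_of_surjective_hom f
  haveI : LocallyOfFiniteType f.left := by
    haveI : LocallyOfFiniteType (f.left ≫ H.hom) := by rw [Over.w f]; infer_instance
    exact locallyOfFiniteType_of_comp f.left H.hom
  haveI : LocallyOfFinitePresentation f.left := inferInstance
  haveI : EffectiveEpi f.left := inferInstance
  have hcond : ∀ {Z : Scheme.{u}} (a b : Z ⟶ G.left), a ≫ f.left = b ≫ f.left →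
      a ≫ ((𝟙 G : G ⟶ G) ^ n).left = b ≫ ((𝟙 G : G ⟶ G) ^ n).left := by
    intro Z a b hab
    let T : Over (Spec (CommRingCat.of k)) := Over.mk (a ≫ G.hom)
    let a' : T ⟶ G := Over.homMk a rfl
    let b' : T ⟶ G := Over.homMk b (by
      show b ≫ G.hom = a ≫ G.hom
      rw [← Over.w f, ← Category.assoc, ← hab, Category.assoc])
    have h1 : (a' * b'⁻¹) ≫ f = 1 := by
      rw [MonObj.mul_comp, GrpObj.inv_comp, show a' ≫ f = b' ≫ f from Over.OverMorphism.ext hab, mul_inv_cancel]
    have h2 : a' ^ n = b' ^ n := by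
      have h3 := hkill _ h1
      rw [mul_pow, inv_pow, mul_inv_eq_one] at h3
      exact h3
    have h4 : a' ≫ (𝟙 G : G ⟶ G) ^ n = b' ≫ (𝟙 G : G ⟶ G) ^ n := by
      rw [MonObj.comp_pow, Category.comp_id, MonObj.comp_pow, Category.comp_id]
      exact h2
    exact congrArg CommaMorphism.left h4
  let g := EffectiveEpi.desc f.left ((𝟙 G : G ⟶ G) ^ n).left hcond
  have hg : f.left ≫ g = ((𝟙 G : G ⟶ G) ^ n).left := EffectiveEpi.fac _ _ _
  refine ⟨Over.homMk g ((cancel_epi f.left).1 (by rw [← Category.assoc, hg, Over.w, Over.w])), ?_⟩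
  exact Over.OverMorphism.ext hg

end Groth.Agent.NIsog
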